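import Mathlib.RingTheory.Henselian
import Mathlib.RingTheory.RootsOfUnity.AlgebraicallyClosed
import Mathlib.FieldTheory.IsSepClosed
import Mathlib.RingTheory.Polynomial.Eisenstein.Basic
import Mathlib.RingTheory.Polynomial.GaussLemma
import Mathlib.FieldTheory.Galois.Basic
import Mathlib.RingTheory.DiscreteValuationRing.Basic

/-!
# Kummer theory of the `ℓ`-power roots of a uniformizer

`R` a strictly henselian discrete valuation ring with fraction field `K`, `Ω` a separable closure of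
`K`, `ℓ` a prime invertible in `R`, `ϖ` a uniformizer, `N > 0`.  There is a finite subextension `E`
of `Ω / K` such that every `σ` fixing `E` is the `N`-th power of a `K`-automorphism on `K(ϖ^{1/ℓ^s})`,
for all `s`.
-/

set_option autoImplicit false

universe u

namespace Groth.Agent.Sga7.H665.Kum

open IsLocalRing Polynomial IntermediateField

/-- Roots of unity of order invertible in a strictly henselian local domain lie in it. -/
theorem exists_isPrimitiveRoot (R : Type u) [CommRing R] [IsDomain R] [HenselianLocalRing R]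
    [IsSepClosed (ResidueField R)] (m : ℕ) (hm : IsUnit (m : R)) :
    ∃ ζ : R, IsPrimitiveRoot ζ m := by
  have hm0 : m ≠ 0 := by
    rintro rfl
    simp at hm
  have hmk : NeZero (m : ResidueField R) := by
    constructor
    have := hm.map (residue R)
    rw [map_natCast] at this
    exact this.ne_zero
  obtain ⟨z, hz⟩ := (IsSepClosed.hasEnoughRootsOfUnity (ResidueField R) m).prim
  obtain ⟨b₀, hb₀⟩ := residue_surjective z
  have hmon : (X ^ m - C (1 : R)).Monic := monic_X_pow_sub_C _ hm0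
  have h3 : (X ^ m - C (1 : R)).eval b₀ ∈ maximalIdeal R := by
    rw [← residue_eq_zero_iff]
    simp [hb₀, hz.pow_eq_one]
  have hbu : IsUnit b₀ := by
    by_contra hcon
    have : residue R b₀ = 0 := by
      rw [residue_eq_zero_iff]
      exact hcon
    rw [hb₀] at this
    exact hz.isUnit hm0 |>.ne_zero this
  have h4 : IsUnit ((X ^ m - C (1 : R)).derivative.eval b₀) := by
    simp only [derivative_sub, derivative_X_pow, derivative_C, sub_zero, eval_mul, eval_natCast,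
      eval_pow, eval_X, map_natCast]
    exact hm.mul (hbu.pow _)
  obtain ⟨b, hb, hbb⟩ := HenselianLocalRing.is_henselian _ hmon b₀ h3 h4
  refine ⟨b, ?_, fun k hk => ?_⟩
  · simpa [IsRoot.def, sub_eq_zero] using hb
  · apply hz.dvd_of_pow_eq_one
    have h5 : residue R b = z := by
      rw [← hb₀, ← sub_eq_zero, ← map_sub, residue_eq_zero_iff]
      exact hbb
    rw [← h5, ← map_pow, hk, map_one]

/-- `X ^ n - ϖ` is irreducible over the fraction field (Eisenstein). -/
theorem irreducible_X_pow_sub_C (R : Type u) (K : Type*) [CommRing R] [IsDomain R]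
    [IsDiscreteValuationRing R] [Field K] [Algebra R K] [IsFractionRing R K] (ϖ : R)
    (hϖ : Irreducible ϖ) (n : ℕ) (hn : 0 < n) :
    Irreducible (X ^ n - C (algebraMap R K ϖ) : K[X]) := by
  have hp : Prime ϖ := hϖ.prime
  have hmon : (X ^ n - C ϖ : R[X]).Monic := monic_X_pow_sub_C _ hn.ne'
  have hdeg : (X ^ n - C ϖ : R[X]).natDegree = n := natDegree_X_pow_sub_C
  have hirr : Irreducible (X ^ n - C ϖ : R[X]) := by
    refine IsEisensteinAt.irreducible (𝓟 := Ideal.span {ϖ}) ⟨?_, ?_, ?_⟩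
      ((Ideal.span_singleton_prime hp.ne_zero).2 hp) hmon.isPrimitive (by rw [hdeg]; exact hn)
    · rw [hmon.leadingCoeff, Ideal.mem_span_singleton]
      exact fun h => hp.not_isUnit (isUnit_of_dvd_one h)
    · intro k hk
      rw [hdeg] at hk
      rw [Ideal.mem_span_singleton, coeff_sub, coeff_X_pow, if_neg hk.ne, zero_sub, dvd_neg, coeff_C]
      split_ifs
      · exact dvd_rfl
      · exact dvd_zero _
    · rw [coeff_sub, coeff_X_pow, if_neg hn.ne, coeff_C_zero, zero_sub, Ideal.neg_mem_iff,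
        Ideal.span_singleton_pow, Ideal.mem_span_singleton]
      intro h
      rw [pow_two] at h
      have := (mul_dvd_mul_iff_left hp.ne_zero (b := ϖ) (c := 1)).1 (by simpa using h)
      exact hp.not_isUnit (isUnit_of_dvd_one this)
  have := (hmon.irreducible_iff_irreducible_map_fraction_map (K := K)).1 hirr
  simpa using this

/-- The automorphism `y ↦ ζ y` of `K(y)`, `y ^ n = a` with `X ^ n - a` irreducible, `ζ ^ n = 1`. -/
theorem exists_aut {K Ω : Type*} [Field K] [Field Ω] [Algebra K Ω] (n : ℕ) (hn : 0 < n) (a : K)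
    (hirr : Irreducible (X ^ n - C a)) (y : Ω) (hy : y ^ n = algebraMap K Ω a) (ζ : K)
    (hζ : ζ ^ n = 1) :
    ∃ S : K⟮y⟯ ≃ₐ[K] K⟮y⟯, ∀ k : ℕ,
      (S ^ k) (AdjoinSimple.gen K y) = algebraMap K K⟮y⟯ (ζ ^ k) * AdjoinSimple.gen K y := by
  have hmon : (X ^ n - C a).Monic := monic_X_pow_sub_C _ hn.ne'
  have hyr : aeval y (X ^ n - C a) = 0 := by simp [hy]
  have hint : IsIntegral K y := ⟨_, hmon, hyr⟩
  have hmin : minpoly K y = X ^ n - C a :=
    (minpoly.eq_of_irreducible_of_monic hirr hyr hmon).symm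
  have hgen : (AdjoinSimple.gen K y) ^ n = algebraMap K K⟮y⟯ a := by
    apply (algebraMap K⟮y⟯ Ω).injective
    rw [map_pow, AdjoinSimple.algebraMap_gen, hy, ← IsScalarTower.algebraMap_apply]
  have hroot : aeval (algebraMap K K⟮y⟯ ζ * AdjoinSimple.gen K y)
      (minpoly K (IntermediateField.adjoin.powerBasis hint).gen) = 0 := by
    rw [IntermediateField.adjoin.powerBasis_gen, minpoly_gen, hmin, map_sub, aeval_X_pow, aeval_C,
      mul_pow, hgen, ← map_pow, hζ, map_one, one_mul, sub_self]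
  let f : K⟮y⟯ →ₐ[K] K⟮y⟯ := (IntermediateField.adjoin.powerBasis hint).lift _ hroot
  have hf : f (AdjoinSimple.gen K y) = algebraMap K K⟮y⟯ ζ * AdjoinSimple.gen K y := by
    have := (IntermediateField.adjoin.powerBasis hint).lift_gen _ hroot
    rwa [IntermediateField.adjoin.powerBasis_gen] at this
  have : FiniteDimensional K K⟮y⟯ := IntermediateField.adjoin.finiteDimensional hint
  let S : K⟮y⟯ ≃ₐ[K] K⟮y⟯ := AlgEquiv.ofBijective f (Algebra.IsAlgebraic.algHom_bijective f)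
  refine ⟨S, fun k => ?_⟩
  induction k with
  | zero => simp
  | succ k ih =>
    rw [pow_succ, AlgEquiv.mul_apply]
    have h1 : S (AdjoinSimple.gen K y) = algebraMap K K⟮y⟯ ζ * AdjoinSimple.gen K y := hf
    rw [h1, map_mul, ih, AlgEquiv.commutes, pow_succ, map_mul]
    ring

/-- (KUM) elements fixing a suitable finite extension are `N`-th powers on `K(ϖ^{1/ℓ^s})` -/
theorem exists_kum (R K Ω : Type u) [CommRing R] [IsDomain R] [IsDiscreteValuationRing R]
    [HenselianLocalRing R] [IsSepClosed (ResidueField R)] [Field K] [Algebra R K]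
    [IsFractionRing R K] [Field Ω] [Algebra K Ω] [IsSepClosure K Ω]
    (ℓ : ℕ) (hℓ : ℓ.Prime) (hℓp : (ℓ : ResidueField R) ≠ 0) (ϖ : R) (hϖ : Irreducible ϖ)
    (N : ℕ) (hN : 0 < N) :
    ∃ E : IntermediateField K Ω, FiniteDimensional K E ∧
      ∀ (s : ℕ) (y : Ω), y ^ (ℓ ^ s) = algebraMap K Ω (algebraMap R K ϖ) →
        ∀ σ ∈ E.fixingSubgroup,
        ∃ S : IntermediateField.adjoin K {y} ≃ₐ[K] IntermediateField.adjoin K {y},
          ∀ x : IntermediateField.adjoin K {y}, σ x = ((S ^ N) x : Ω) := by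
  have hℓu : IsUnit (ℓ : R) := by
    by_contra hcon
    apply hℓp
    rw [← map_natCast (residue R), residue_eq_zero_iff]
    exact hcon
  have hℓK : (algebraMap R K (ℓ : R)) ≠ 0 := (hℓu.map (algebraMap R K)).ne_zero
  rw [map_natCast] at hℓK
  have hℓΩ : (ℓ : Ω) ≠ 0 := by
    rw [← map_natCast (algebraMap K Ω)]
    exact (_root_.map_ne_zero _).2 hℓK
  have : IsSepClosed Ω := IsSepClosure.sep_closed K
  obtain ⟨e, m, hm, hNe⟩ := Nat.exists_eq_pow_mul_and_not_dvd hN.ne' ℓ hℓ.ne_one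
  have : NeZero ((ℓ ^ e : ℕ) : Ω) := ⟨by rw [Nat.cast_pow]; exact pow_ne_zero _ hℓΩ⟩
  set a : Ω := algebraMap K Ω (algebraMap R K ϖ) with ha
  have ha0 : a ≠ 0 := by
    rw [ha]
    refine (_root_.map_ne_zero _).2 ?_
    exact fun h => hϖ.ne_zero ((IsFractionRing.injective R K) (by rw [h, map_zero]))
  obtain ⟨y₀, hy₀⟩ := IsSepClosed.exists_pow_nat_eq a (ℓ ^ e)
  have hint₀ : IsIntegral K y₀ :=
    ⟨X ^ (ℓ ^ e) - C (algebraMap R K ϖ), monic_X_pow_sub_C _ (pow_pos hℓ.pos _).ne', by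
      simp [hy₀, ha]⟩
  refine ⟨K⟮y₀⟯, IntermediateField.adjoin.finiteDimensional hint₀, fun s y hy σ hσ => ?_⟩
  have hσ0 : σ y₀ = y₀ := (IntermediateField.mem_fixingSubgroup_iff _ _).1 hσ y₀
    (IntermediateField.mem_adjoin_simple_self K y₀)
  have hy0 : y ≠ 0 := by
    rintro rfl
    rw [zero_pow (pow_pos hℓ.pos _).ne'] at hy
    exact ha0 hy.symm
  have hy00 : y₀ ≠ 0 := by
    rintro rfl
    rw [zero_pow (pow_pos hℓ.pos _).ne'] at hy₀
    exact ha0 hy₀.symm
  -- a root of unity of order dividing `ℓ ^ k` comes from `K`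
  have hroot : ∀ (k : ℕ) (η : Ω), η ^ (ℓ ^ k) = 1 → ∃ ξ : K, algebraMap K Ω ξ = η := by
    intro k η hη
    obtain ⟨g, hg⟩ := exists_isPrimitiveRoot R (ℓ ^ k) (by rw [Nat.cast_pow]; exact hℓu.pow _)
    have hg' : IsPrimitiveRoot (algebraMap K Ω (algebraMap R K g)) (ℓ ^ k) :=
      (hg.map_of_injective (IsFractionRing.injective R K)).map_of_injective (algebraMap K Ω).injective
    have : NeZero (ℓ ^ k) := ⟨(pow_pos hℓ.pos _).ne'⟩
    obtain ⟨i, -, hi⟩ := hg'.eq_pow_of_pow_eq_one hη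
    exact ⟨algebraMap R K g ^ i, by rw [map_pow, hi]⟩
  -- two roots of the same order differ by an element of `K`
  have hσroot : ∀ (k : ℕ) (x z : Ω), z ≠ 0 → x ^ (ℓ ^ k) = z ^ (ℓ ^ k) → σ z = z → σ x = x := by
    intro k x z hz hxz hσz
    obtain ⟨ξ, hξ⟩ := hroot k (x / z) (by rw [div_pow, hxz, div_self (pow_ne_zero _ hz)])
    have : x = algebraMap K Ω ξ * z := by rw [hξ, div_mul_cancel₀ _ hz]
    rw [this, map_mul, AlgEquiv.commutes, hσz]
  -- the root of unity `ζ' ` with `σ y = ζ' ^ N * y`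
  have key : ∃ ζ : K, ζ ^ (ℓ ^ s) = 1 ∧ σ y = algebraMap K Ω (ζ ^ N) * y := by
    rcases lt_or_ge s e with hse | hse
    · refine ⟨1, one_pow _, ?_⟩
      rw [one_pow, map_one, one_mul]
      refine hσroot s y (y₀ ^ (ℓ ^ (e - s))) (pow_ne_zero _ hy00) ?_ (by rw [map_pow, hσ0])
      rw [hy, ← pow_mul, ← pow_add, Nat.sub_add_cancel hse.le, hy₀]
    · obtain ⟨g, hg⟩ := exists_isPrimitiveRoot R (ℓ ^ s) (by rw [Nat.cast_pow]; exact hℓu.pow _)
      have hgK : IsPrimitiveRoot (algebraMap R K g) (ℓ ^ s) :=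
        hg.map_of_injective (IsFractionRing.injective R K)
      have hg' : IsPrimitiveRoot (algebraMap K Ω (algebraMap R K g)) (ℓ ^ s) :=
        hgK.map_of_injective (algebraMap K Ω).injective
      have : NeZero (ℓ ^ s) := ⟨(pow_pos hℓ.pos _).ne'⟩
      have h1 : (σ y / y) ^ (ℓ ^ s) = 1 := by
        rw [div_pow, ← map_pow, hy, ha, AlgEquiv.commutes, ← ha, div_self ha0]
      obtain ⟨i, -, hi⟩ := hg'.eq_pow_of_pow_eq_one h1
      have h2 : σ (y ^ (ℓ ^ (s - e))) = y ^ (ℓ ^ (s - e)) := by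
        refine hσroot e _ y₀ hy00 ?_ hσ0
        rw [← pow_mul, ← pow_add, Nat.sub_add_cancel hse, hy, hy₀]
      have h3 : (σ y / y) ^ (ℓ ^ (s - e)) = 1 := by
        rw [div_pow, ← map_pow, h2, div_self (pow_ne_zero _ hy0)]
      rw [← hi, ← pow_mul] at h3
      have h4 : ℓ ^ s ∣ i * ℓ ^ (s - e) := hg'.dvd_of_pow_eq_one _ h3
      have h5 : ℓ ^ e ∣ i := by
        have : ℓ ^ e * ℓ ^ (s - e) ∣ i * ℓ ^ (s - e) := by
          rwa [← pow_add, Nat.add_sub_cancel' hse]
        exact Nat.dvd_of_mul_dvd_mul_right (pow_pos hℓ.pos _) this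
      obtain ⟨j, rfl⟩ := h5
      have hcop : Nat.Coprime m (ℓ ^ s) :=
        (Nat.Coprime.pow_left s ((Nat.Prime.coprime_iff_not_dvd hℓ).2 hm)).symm
      obtain ⟨m', hm'⟩ : ∃ m' : ℕ, m * m' ≡ 1 [MOD ℓ ^ s] := by
        obtain ⟨m', -, hm'⟩ := Nat.exists_mul_mod_eq_of_coprime 1 hcop (pow_pos hℓ.pos s).ne'
        exact ⟨m', hm'⟩
      refine ⟨algebraMap R K g ^ (j * m'), ?_, ?_⟩
      · rw [← pow_mul, mul_comm, pow_mul, hgK.pow_eq_one, one_pow]
      · have h6 : (algebraMap R K g ^ (j * m')) ^ N = algebraMap R K g ^ (ℓ ^ e * j) := by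
          rw [← pow_mul, hNe]
          have h7 : j * m' * (ℓ ^ e * m) = (ℓ ^ e * j) * (m * m') := by ring
          rw [h7]
          have h8 : (ℓ ^ e * j) * (m * m') ≡ (ℓ ^ e * j) * 1 [MOD ℓ ^ s] := hm'.mul_left _
          rw [mul_one] at h8
          rw [hgK.eq_orderOf] at h8
          exact (hgK.isOfFinOrder (pow_pos hℓ.pos s).ne').pow_eq_pow_iff_modEq.2 h8
        rw [h6, map_pow, hi, div_mul_cancel₀ _ hy0]
  obtain ⟨ζ, hζ, hσy⟩ := key
  obtain ⟨S, hS⟩ := exists_aut (ℓ ^ s) (pow_pos hℓ.pos _) (algebraMap R K ϖ)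
    (irreducible_X_pow_sub_C R K ϖ hϖ (ℓ ^ s) (pow_pos hℓ.pos _)) y hy ζ hζ
  have hint : IsIntegral K y :=
    ⟨X ^ (ℓ ^ s) - C (algebraMap R K ϖ), monic_X_pow_sub_C _ (pow_pos hℓ.pos _).ne', by
      simp [hy, ha]⟩
  refine ⟨S, fun x => ?_⟩
  have hext : (σ : Ω →ₐ[K] Ω).comp K⟮y⟯.val = K⟮y⟯.val.comp ((S ^ N : K⟮y⟯ ≃ₐ[K] K⟮y⟯) : K⟮y⟯ →ₐ[K] K⟮y⟯) := by
    apply (IntermediateField.adjoin.powerBasis hint).algHom_ext
    rw [IntermediateField.adjoin.powerBasis_gen]
    change σ y = ((S ^ N) (AdjoinSimple.gen K y) : Ω)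
    rw [hS N, hσy]
    rfl
  exact DFunLike.congr_fun hext x

end Groth.Agent.Sga7.H665.Kum
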